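import Cfsg.Agent.HNRec.Global.Mat.Words

/-! Generated: kernel checks. -/

set_option Elab.async false
set_option maxRecDepth 100000

namespace Cfsg.Agent.HNRec.Global

open Cfsg.Agent.HNSub Cfsg.Agent.HNA12

/-- A relator; the letter 8 is `s`. -/
def rel5 : List Nat := [1, 1, 1, 0, 2, 1, 1, 1, 8, 1, 1, 1, 0, 2, 1, 1, 1, 8, 1, 1, 1, 0, 2, 1, 1, 1, 8, 1, 1, 1, 0, 2, 1, 1, 1, 8]

theorem rel5_ok_part0 : partB g9 id133 rel5 0 = true := by decide +kernel

theorem rel5_ok_part1 : partB g9 id133 rel5 1 = true := by decide +kernel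

theorem rel5_ok_part2 : partB g9 id133 rel5 2 = true := by decide +kernel

theorem rel5_ok_part3 : partB g9 id133 rel5 3 = true := by decide +kernel

theorem rel5_ok_part4 : partB g9 id133 rel5 4 = true := by decide +kernel

theorem rel5_ok : ∀ k, k < 5 → partB g9 id133 rel5 k = true
  | 0, _ => rel5_ok_part0
  | 1, _ => rel5_ok_part1
  | 2, _ => rel5_ok_part2
  | 3, _ => rel5_ok_part3
  | 4, _ => rel5_ok_part4
  | k + 5, h => absurd h (by omega)

end Cfsg.Agent.HNRec.Global
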