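import Cfsg.Agent.HNRec.Global.Mat.Rel8

/-! Generated: kernel checks. -/

set_option Elab.async false
set_option maxRecDepth 100000

namespace Cfsg.Agent.HNRec.Global

open Cfsg.Agent.HNSub Cfsg.Agent.HNA12

theorem rel8_ok_part3 : partB g9 id133 rel8 3 = true := by decide +kernel

theorem rel8_ok_part4 : partB g9 id133 rel8 4 = true := by decide +kernel

end Cfsg.Agent.HNRec.Global
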