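import Cfsg.Agent.HNRec.Global.Mat.Check5A
import Cfsg.Agent.HNRec.Global.Mat.Check5B

/-! Generated: kernel checks. -/

set_option Elab.async false
set_option maxRecDepth 100000

namespace Cfsg.Agent.HNRec.Global

open Cfsg.Agent.HNSub Cfsg.Agent.HNA12

theorem rel8_ok : ∀ k, k < 5 → partB g9 id133 rel8 k = true
  | 0, _ => rel8_ok_part0
  | 1, _ => rel8_ok_part1
  | 2, _ => rel8_ok_part2
  | 3, _ => rel8_ok_part3
  | 4, _ => rel8_ok_part4
  | k + 5, h => absurd h (by omega)

end Cfsg.Agent.HNRec.Global
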