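import Cfsg.Agent.HNRec.Global.Mat.Words

/-! Generated: kernel checks. -/

set_option Elab.async false
set_option maxRecDepth 100000

namespace Cfsg.Agent.HNRec.Global

open Cfsg.Agent.HNSub Cfsg.Agent.HNA12

/-- A relator; the letter 8 is `s`. -/
def rel8 : List Nat := [0, 1, 0, 1, 0, 1, 4, 2, 1, 2, 5, 1, 1, 0, 5, 0, 5, 0, 1, 1, 8, 1, 1, 0, 1, 0, 1, 0, 2, 5, 0, 5, 0, 5, 5, 8, 0, 1, 1, 1, 0, 1, 1, 1, 0, 1, 1, 1, 1, 1, 0, 1, 0, 1, 0, 2, 5, 0, 5, 0, 5, 5, 0, 1, 0, 1, 0, 1, 4, 2, 1, 2, 5, 1, 1, 0, 5, 0, 5, 0, 1, 1, 8, 1, 1, 0, 1, 0, 1, 0, 2, 5, 0, 5, 0, 5, 5, 8, 0, 1, 1, 1, 0, 1, 1, 1, 0, 1, 1, 1, 1, 1, 0, 1, 0, 1, 0, 2, 5, 0, 5, 0, 5, 5, 1, 1, 1, 0, 2, 1, 1, 1, 0, 1, 1, 1, 0, 2, 5, 5, 5, 4]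

end Cfsg.Agent.HNRec.Global
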