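import Cfsg.Agent.HNA12.Chunk
import Cfsg.Agent.HNRec.Global.Mat.Data

/-! Generated: the letters and the relators checked in degree 133. -/

set_option maxRecDepth 100000

namespace Cfsg.Agent.HNRec.Global

open Cfsg.Agent.HNSub

/-- The word of `s` in the numbered letters. -/
def sLits : List Nat := [3, 3, 3, 2, 3, 0, 2]

/-- The matrices of the eight letters followed by that of `s`. -/
def g9 (x : Nat) : List Blk := cond (Nat.beq x 8) sMat (m133 x)

end Cfsg.Agent.HNRec.Global
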